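import Groth.Agent.L15.KFlatSite.ToSheafColim
import Groth.Prelude.Def_ModSite
import Mathlib.Algebra.Category.ModuleCat.Stalk
import Mathlib.Algebra.Category.ModuleCat.Colimits
import Mathlib.Algebra.Category.ModuleCat.Limits
import Mathlib.Algebra.Category.ModuleCat.Sheaf.Limits
import Mathlib.Topology.Sheaves.Skyscraper
import Mathlib.Topology.Sheaves.Abelian
import Mathlib.Algebra.Category.Grp.AB
import Mathlib.Algebra.Category.Grp.FilteredColimits
import Mathlib.Algebra.Category.Grp.Zero

/-!
# The linear stalk functor for sheaves of modules on a ringed space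
-/

set_option autoImplicit false
set_option linter.style.haveILetI false
set_option backward.isDefEq.respectTransparency false
set_option backward.isDefEq.respectTransparency.types false

universe u

open CategoryTheory CategoryTheory.Limits TopologicalSpace Opposite

noncomputable section

namespace Groth.L17.Tilde

variable {X : TopCat.{u}} (O : Sheaf (Opens.grothendieckTopology X) CommRingCat.{u}) (x : X)

/-- The local ring. -/
abbrev Ox : CommRingCat.{u} := TopCat.Presheaf.stalk (C := CommRingCat.{u}) O.obj x

/-- The underlying presheaf of modules. -/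
abbrev pre (M : ModSite.Mod O) : PresheafOfModules.{u} ((O.obj : TopCat.Presheaf CommRingCat.{u} X) ⋙ forget₂ _ RingCat.{u}) :=
  M.val

/-- The stalk functor to abelian groups. -/
abbrev stAb : ModSite.Mod O ⥤ AddCommGrpCat.{u} :=
  SheafOfModules.toSheaf (ModSite.ringSh O) ⋙ TopCat.Sheaf.forget AddCommGrpCat.{u} X ⋙
    TopCat.Presheaf.stalkFunctor AddCommGrpCat.{u} x

theorem stAb_germ {M N : ModSite.Mod O} (f : M ⟶ N) {U : Opens X} (hx : x ∈ U) (s : M.val.obj (op U)) :
    (stAb O x).map f (TopCat.Presheaf.germ (pre O M).presheaf U x hx s) =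
      TopCat.Presheaf.germ (pre O N).presheaf U x hx (f.val.app (op U) s) :=
  TopCat.Presheaf.stalkFunctor_map_germ_apply U x hx ((SheafOfModules.toSheaf (ModSite.ringSh O)).map f).hom s

/-- The stalk functor to modules over the local ring. -/
def stMod : ModSite.Mod O ⥤ ModuleCat.{u} (Ox O x) where
  obj M := ModuleCat.of (Ox O x) ↑(TopCat.Presheaf.stalk (pre O M).presheaf x)
  map {M N} f := ModuleCat.ofHom
    { toFun := (stAb O x).map f
      map_add' := fun a b => map_add ((stAb O x).map f).hom a b
      map_smul' := fun r a => by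
        obtain ⟨U, hU, r, rfl⟩ := TopCat.Presheaf.exists_germ_eq (F := (O.obj : TopCat.Presheaf CommRingCat.{u} X)) (x := x) r
        obtain ⟨V, hV, a, rfl⟩ := TopCat.Presheaf.exists_germ_eq (F := (pre O M).presheaf) (x := x) a
        have e1 := TopCat.Presheaf.germ_res_apply (O.obj : TopCat.Presheaf CommRingCat.{u} X)
          (homOfLE (inf_le_left : U ⊓ V ≤ U)) x ⟨hU, hV⟩ r
        have e2 := TopCat.Presheaf.germ_res_apply (pre O M).presheaf
          (homOfLE (inf_le_right : U ⊓ V ≤ V)) x ⟨hU, hV⟩ a
        rw [← e1, ← e2, ← PresheafOfModules.germ_smul]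
        refine (stAb_germ O x f (U := U ⊓ V) (show x ∈ U ⊓ V from ⟨hU, hV⟩) _).trans ?_
        refine Eq.trans (congrArg _ ((f.val.app (op (U ⊓ V))).hom.map_smul _ _)) ?_
        refine (PresheafOfModules.germ_smul (pre O N) x (U ⊓ V) ⟨hU, hV⟩ _ _).trans ?_
        exact congrArg (_ • ·) (stAb_germ O x f (U := U ⊓ V) (show x ∈ U ⊓ V from ⟨hU, hV⟩) _).symm }
  map_id M := by ext a; exact congr($((stAb O x).map_id M) a)
  map_comp f g := by ext a; exact congr($((stAb O x).map_comp f g) a)

/-- The germ of a section. -/
def germ (M : ModSite.Mod O) {U : Opens X} (hx : x ∈ U) (s : M.val.obj (op U)) : (stMod O x).obj M :=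
  TopCat.Presheaf.germ (pre O M).presheaf U x hx s

/-- The underlying abelian groups. -/
def stModForget : stMod O x ⋙ forget₂ (ModuleCat.{u} (Ox O x)) AddCommGrpCat.{u} ≅ stAb O x :=
  NatIso.ofComponents (fun _ => Iso.refl _) fun f => (Category.comp_id _).trans (Category.id_comp _).symm

theorem preservesFiniteLimits_stAb : PreservesFiniteLimits (stAb O x) := by
  haveI : PreservesFiniteLimits (SheafOfModules.toSheaf (ModSite.ringSh O)) := inferInstance
  haveI : PreservesFiniteLimits (TopCat.Sheaf.forget AddCommGrpCat.{u} X ⋙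
    TopCat.Presheaf.stalkFunctor AddCommGrpCat.{u} x) := inferInstance
  exact comp_preservesFiniteLimits _ _

theorem additive_stAb : (stAb O x).Additive := by
  haveI := preservesFiniteLimits_stAb O x
  haveI : PreservesBinaryBiproducts (stAb O x) := preservesBinaryBiproducts_of_preservesBinaryProducts _
  exact Functor.additive_of_preservesBinaryBiproducts _

theorem preservesColimits_stAb : PreservesColimitsOfSize.{u, u} (stAb O x) := by
  haveI := Groth.L15.KFlatSite.preservesColimits_toSheaf (ModSite.ringSh O)
  classical
  haveI : PreservesColimitsOfSize.{u, u} (TopCat.Sheaf.forget AddCommGrpCat.{u} X ⋙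
      TopCat.Presheaf.stalkFunctor AddCommGrpCat.{u} x) :=
    (stalkSkyscraperSheafAdjunction x).leftAdjoint_preservesColimits
  infer_instance

theorem preservesColimits_stMod : PreservesColimitsOfSize.{u, u} (stMod O x) := by
  haveI := preservesColimits_stAb O x
  haveI : PreservesColimitsOfSize.{u, u} (stMod O x ⋙ forget₂ (ModuleCat.{u} (Ox O x)) AddCommGrpCat.{u}) :=
    preservesColimits_of_natIso (stModForget O x).symm
  exact ⟨fun {_ _} => preservesColimitsOfShape_of_reflects_of_preserves (stMod O x) (forget₂ _ AddCommGrpCat.{u})⟩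

instance additive_stMod : (stMod O x).Additive where
  map_add {M N f g} := by
    haveI := additive_stAb O x
    ext a
    exact congr($((stAb O x).map_add (f := f) (g := g)) a)

theorem preservesFiniteLimits_stMod : PreservesFiniteLimits (stMod O x) := by
  haveI := preservesFiniteLimits_stAb O x
  haveI : PreservesFiniteLimits (stMod O x ⋙ forget₂ (ModuleCat.{u} (Ox O x)) AddCommGrpCat.{u}) :=
    preservesFiniteLimits_of_natIso (stModForget O x).symm
  exact ⟨fun J _ _ => preservesLimitsOfShape_of_reflects_of_preserves (stMod O x) (forget₂ _ AddCommGrpCat.{u})⟩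

theorem preservesFiniteColimits_stMod : PreservesFiniteColimits (stMod O x) := by
  haveI := preservesColimits_stMod O x
  exact PreservesColimitsOfSize.preservesFiniteColimits _

end Groth.L17.Tilde
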