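import Mathlib.CategoryTheory.Triangulated.Pretriangulated
import Mathlib.CategoryTheory.Triangulated.Functor
import Mathlib.CategoryTheory.Adjunction.FullyFaithful
import Mathlib.CategoryTheory.Adjunction.Restrict
import Mathlib.CategoryTheory.HomCongr
import Mathlib.CategoryTheory.Limits.Preserves.Shapes.Products
import Mathlib.CategoryTheory.ObjectProperty.FullSubcategory

/-!
# Coreflections onto torsion objects in triangulated categories

If objects without torsion are detected by a predicate closed under coproducts of triangles, the coreflection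
preserves coproducts; a right adjoint of it inverts torsion objects.
-/

set_option autoImplicit false
set_option linter.style.haveILetI false
set_option linter.unusedSectionVars false
set_option backward.defeqAttrib.useBackward true
set_option backward.isDefEq.respectTransparency false
set_option backward.isDefEq.respectTransparency.types false

universe t v u

open CategoryTheory CategoryTheory.Limits CategoryTheory.Pretriangulated

noncomputable section

namespace Groth.L17.Tilde.Abstract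

variable {D : Type u} [Category.{v} D] [Preadditive D] [HasZeroObject D] [HasShift D ℤ]
  [∀ n : ℤ, (shiftFunctor D n).Additive] [Pretriangulated D]
  {Γ : D ⥤ D} (ε : Γ ⟶ 𝟭 D) {P : ObjectProperty D}
  (hT : ∀ E, P (Γ.obj E)) (hiso : ∀ E, P E → IsIso (ε.app E))
  (hbij : ∀ E F, P E → Function.Bijective fun φ : E ⟶ Γ.obj F => φ ≫ ε.app F)

include hT hbij in
theorem map_ε_eq (E : D) : Γ.map (ε.app E) = ε.app (Γ.obj E) :=
  (hbij _ E (hT _)).injective (ε.naturality (ε.app E))

section Coproducts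

variable [Γ.CommShift ℤ] [Γ.IsTriangulated] {V : D → Prop} (hV0 : ∀ E, IsZero (Γ.obj E) → V E)
  (hV₂ : ∀ T ∈ distTriang D, V T.obj₁ → V T.obj₃ → V T.obj₂) (hV : ∀ E, P E → V E → IsZero E)

include hT hiso hbij in
theorem isZero_map_obj₃ (T : Triangle D) (hT' : T ∈ distTriang D) (hf : IsIso (Γ.map T.mor₁)) : IsZero (Γ.obj T.obj₃) :=
  Triangle.isZero₃_of_isIso₁ _ (Γ.map_distinguished _ hT') hf

include hT hiso hbij hV0 hV₂ hV in
theorem isZero_of_V (E : D) (h : V E) : IsZero (Γ.obj E) := by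
  obtain ⟨C, g, d, hC⟩ := distinguished_cocone_triangle (ε.app E)
  haveI : IsIso (Γ.map (ε.app E)) := by rw [map_ε_eq ε hT hbij]; exact hiso _ (hT E)
  have h0 := isZero_map_obj₃ ε hT hiso hbij _ hC ‹IsIso (Γ.map (ε.app E))›
  refine hV _ (hT E) (hV₂ _ (inv_rot_of_distTriang _ hC) (hV0 _ ?_) h)
  exact ((shiftFunctor D (-1 : ℤ)).map_isZero h0).of_iso ((Γ.commShiftIso (-1 : ℤ)).app C)

include hT hiso hbij hV0 hV₂ hV in
/-- The coreflection preserves coproducts. -/
theorem preservesColimit {ι : Type t} [HasColimitsOfShape (Discrete ι) D]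
    (hP : ∀ K : ι → D, (∀ i, P (K i)) → P (∐ K))
    (hVs : ∀ (X Y : ι → D) (f : ∀ i, X i ⟶ Y i),
      (∀ i, ∀ C (g : Y i ⟶ C) (d : C ⟶ (X i)⟦(1 : ℤ)⟧), Triangle.mk (f i) g d ∈ distTriang D → V C) →
      ∀ C (g : (∐ Y) ⟶ C) (d : C ⟶ (∐ X)⟦(1 : ℤ)⟧), Triangle.mk (Limits.Sigma.map f) g d ∈ distTriang D → V C)
    (K : ι → D) : PreservesColimit (Discrete.functor K) Γ := by
  let m : (∐ fun i => Γ.obj (K i)) ⟶ ∐ K := Limits.Sigma.map fun i => ε.app (K i)
  obtain ⟨C, g, d, hC⟩ := distinguished_cocone_triangle m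
  have hVC : V C := hVs _ _ _ (fun i C' g' d' h' => hV0 _ (by
    haveI : IsIso (Γ.map (ε.app (K i))) := by rw [map_ε_eq ε hT hbij]; exact hiso _ (hT _)
    exact isZero_map_obj₃ ε hT hiso hbij _ h' ‹IsIso (Γ.map (ε.app (K i)))›)) C g d hC
  haveI : IsIso (Γ.map m) :=
    (Triangle.isZero₃_iff_isIso₁ _ (Γ.map_distinguished _ hC)).1 (isZero_of_V ε hT hiso hbij hV0 hV₂ hV C hVC)
  have hPs : P (∐ fun i => Γ.obj (K i)) := hP _ fun i => hT _
  haveI := hiso _ hPs
  have hm : sigmaComparison Γ K ≫ ε.app (∐ K) = m := Sigma.hom_ext _ _ fun i => by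
    rw [ι_comp_sigmaComparison_assoc, Sigma.ι_map]
    exact ε.naturality _
  have h1 : Γ.map m = ε.app _ ≫ sigmaComparison Γ K := (hbij _ _ (hT _)).injective (by
    change Γ.map m ≫ ε.app _ = (ε.app _ ≫ sigmaComparison Γ K) ≫ ε.app _
    rw [Category.assoc, hm]
    exact ε.naturality m)
  haveI : IsIso (ε.app (∐ fun i => Γ.obj (K i)) ≫ sigmaComparison Γ K) := h1 ▸ inferInstance
  haveI : IsIso (sigmaComparison Γ K) := IsIso.of_isIso_comp_left (ε.app (∐ fun i => Γ.obj (K i))) _
  exact PreservesCoproduct.of_iso_comparison Γ K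

end Coproducts

section Adjoint

variable {Λ : D ⥤ D} (adj : Γ ⊣ Λ)

include hT hiso hbij in
/-- The counit of a right adjoint is invertible on torsion objects. -/
theorem isIso_counit {G : D} (hG : P G) : IsIso (adj.counit.app G) := by
  let c : Γ.obj (Λ.obj G) ⟶ G := adj.counit.app G
  have hb : ∀ T, P T → Function.Bijective fun g : T ⟶ Γ.obj (Λ.obj G) => g ≫ c := fun T hT' => by
    haveI := hiso T hT'
    have h : (fun g : T ⟶ Γ.obj (Λ.obj G) => g ≫ c) =
        (fun q => inv (ε.app T) ≫ q) ∘ (adj.homEquiv T G).symm ∘ fun g => g ≫ ε.app (Λ.obj G) := by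
      funext g
      simp only [Function.comp_apply, Adjunction.homEquiv_counit, Functor.map_comp, Category.assoc,
        map_ε_eq ε hT hbij]
      rw [IsIso.eq_inv_comp, ← Category.assoc, ← Category.assoc]
      exact congrArg (· ≫ c) (ε.naturality g).symm
    rw [h]
    have h2 : Function.Bijective fun q : Γ.obj T ⟶ G => inv (ε.app T) ≫ q :=
      ⟨fun a b h => (cancel_epi (inv (ε.app T))).1 h, fun q => ⟨ε.app T ≫ q, by simp⟩⟩
    exact h2.comp ((adj.homEquiv T G).symm.bijective.comp (hbij T (Λ.obj G) hT'))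
  obtain ⟨s, hs⟩ := (hb G hG).surjective (𝟙 G)
  refine ⟨s, (hb _ (hT _)).injective ?_, hs⟩
  change (c ≫ s) ≫ c = 𝟙 _ ≫ c
  rw [Category.assoc, Category.id_comp]
  exact (congrArg (c ≫ ·) hs).trans (Category.comp_id c)

end Adjoint

section Restrict

variable {Λ : D ⥤ D} (adj : Γ ⊣ Λ) {Q : ObjectProperty D} [Q.IsClosedUnderIsomorphisms] (hQ : ∀ E, Q E → P E)
  {D' : Type*} [Category D'] (F : D ⥤ D')

include hT hiso hbij hQ adj in
/-- The coreflection restricted to the objects with torsion in `Q` has a right adjoint, hence composites do. -/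
theorem isLeftAdjoint_comp (h : (Q.ι ⋙ F).IsLeftAdjoint) :
    (ObjectProperty.ι (fun E => Q (Γ.obj E)) ⋙ Γ ⋙ F).IsLeftAdjoint := by
  let Q' : ObjectProperty D := fun E => Q (Γ.obj E)
  let L : Q'.FullSubcategory ⥤ Q.FullSubcategory := Q.lift (Q'.ι ⋙ Γ) fun E => E.property
  let R : Q.FullSubcategory ⥤ Q'.FullSubcategory := Q'.lift (Q.ι ⋙ Λ) fun G =>
    haveI := isIso_counit ε hT hiso hbij adj (hQ _ G.property)
    Q.prop_of_iso (asIso (adj.counit.app G.obj)).symm G.property
  let a : L ⊣ R := adj.restrictFullyFaithful Q'.fullyFaithfulι Q.fullyFaithfulι (Iso.refl _) (Iso.refl _)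
  haveI : L.IsLeftAdjoint := a.isLeftAdjoint
  haveI : (L ⋙ (Q.ι ⋙ F)).IsLeftAdjoint := inferInstance
  exact Functor.isLeftAdjoint_of_iso (Iso.refl (L ⋙ (Q.ι ⋙ F)) : L ⋙ (Q.ι ⋙ F) ≅ Q'.ι ⋙ Γ ⋙ F)

end Restrict

end Groth.L17.Tilde.Abstract
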