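import Groth.Agent.L17.IndRpush.Tilde.Koszul
import Groth.Agent.L10.DerivedModGen
import Mathlib.Algebra.Homology.DerivedCategory.Linear
import Mathlib.Algebra.Homology.DerivedCategory.ShortExact
import Mathlib.Algebra.Homology.HomologicalComplexAbelian
import Mathlib.Algebra.Homology.ShortComplex.ModuleCat

/-!
# Complexes of modules whose torsion part is acyclic vanish against Koszul objects
-/

set_option autoImplicit false
set_option linter.style.haveILetI false
set_option linter.unusedSectionVars false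
set_option backward.defeqAttrib.useBackward true
set_option backward.isDefEq.respectTransparency false

universe u

open CategoryTheory CategoryTheory.Limits DerivedCategory

noncomputable section

namespace Groth.L17.Tilde

variable {R : Type u} [CommRing R] [HasDerivedCategory.{u} (ModuleCat.{u} R)]

/-- The localisation functor. -/
abbrev QQ (R : Type u) [CommRing R] [HasDerivedCategory.{u} (ModuleCat.{u} R)] :
    CochainComplex (ModuleCat.{u} R) ℤ ⥤ DerivedCategory (ModuleCat.{u} R) := DerivedCategory.Q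

/-- The generator in one degree. -/
abbrev genD (R : Type u) [CommRing R] [HasDerivedCategory.{u} (ModuleCat.{u} R)] (m : ℤ) : DerivedCategory (ModuleCat.{u} R) :=
  DerivedCategory.Qh.obj ((HomotopyCategory.quotient _ _).obj (Groth.L10.DerivedModGen.gen R m))

theorem bijective_smul {C : CochainComplex (ModuleCat.{u} R) ℤ} {a : R}
    (h : ∀ n, Function.Bijective fun y : C.X n => a • y) (n : ℤ) (X : DerivedCategory (ModuleCat.{u} R)) :
    Function.Bijective fun f : X ⟶ ((QQ R).obj C)⟦n⟧ => a • f := by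
  haveI : ∀ i, IsIso ((a • 𝟙 C : C ⟶ C).f i) := fun i =>
    (ConcreteCategory.isIso_iff_bijective _).2 (h i)
  haveI : IsIso (a • 𝟙 C : C ⟶ C) := HomologicalComplex.Hom.isIso_of_components _
  let u := (shiftFunctor _ n).map ((QQ R).map (a • 𝟙 C : C ⟶ C))
  haveI : IsIso u := inferInstance
  have hu : ∀ f : X ⟶ ((QQ R).obj C)⟦n⟧, f ≫ u = a • f := fun f => by
    have : u = a • 𝟙 _ := by simp [u, Functor.map_smul]
    rw [this, Linear.comp_smul, Category.comp_id]
  rw [show (fun f : X ⟶ ((QQ R).obj C)⟦n⟧ => a • f) = fun f => f ≫ u from (funext hu).symm]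
  exact ⟨fun f g hfg => (cancel_mono u).1 hfg, fun f => ⟨f ≫ inv u, by simp⟩⟩

theorem torsion_terms {C : CochainComplex (ModuleCat.{u} R) ℤ} {a : R}
    (h : ∀ (n : ℤ) (y : C.X n), ∃ k : ℕ, a ^ k • y = 0) (m n : ℤ) (f : genD R m ⟶ ((QQ R).obj C)⟦n⟧) :
    ∃ k : ℕ, a ^ k • f = 0 := by
  let C' := (shiftFunctor (CochainComplex (ModuleCat.{u} R) ℤ) n).obj C
  let e : DerivedCategory.Qh.obj ((HomotopyCategory.quotient _ _).obj C') ≅ ((QQ R).obj C)⟦n⟧ :=
    (DerivedCategory.quotientCompQhIso _).app C' ≪≫ ((DerivedCategory.Q).commShiftIso n).app C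
  obtain ⟨g, hg⟩ := (CochainComplex.IsKProjective.Qh_map_bijective (Groth.L10.DerivedModGen.gen R m)
    ((HomotopyCategory.quotient _ _).obj C')).surjective (f ≫ e.inv)
  obtain ⟨z, rfl⟩ := (HomotopyCategory.quotient _ _).map_surjective g
  let s := HomologicalComplex.singleObjXSelf (ComplexShape.up ℤ) m (ModuleCat.of R R)
  obtain ⟨k, hk⟩ := h (m + n) ((s.inv ≫ z.f m) (1 : R))
  refine ⟨k, ?_⟩
  have hz : a ^ k • z = 0 := by
    refine HomologicalComplex.from_single_hom_ext ?_
    rw [← cancel_epi s.inv]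
    refine ModuleCat.hom_ext (LinearMap.ext_ring ?_)
    simpa using hk
  rw [← cancel_mono e.inv, Linear.smul_comp, ← hg, ← Functor.map_smul, ← Functor.map_smul, hz, Functor.map_zero,
    Functor.map_zero, zero_comp]

variable [HasCoproducts.{u} (DerivedCategory (ModuleCat.{u} R))]

theorem isZero_of_van_nil {C : DerivedCategory (ModuleCat.{u} R)} (h : ∀ m, Van (genD R m) ([] : List R) C) :
    IsZero C :=
  Groth.L10.DerivedModGen.generates C fun i n f => h i.down n f

/-- Torsion complexes vanishing against the Koszul objects vanish. -/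
theorem isZero_of_torsion {C : CochainComplex (ModuleCat.{u} R) ℤ} (l : List R)
    (h : ∀ a ∈ l, ∀ (n : ℤ) (y : C.X n), ∃ k : ℕ, a ^ k • y = 0) (hv : ∀ m, Van (genD R m) l ((QQ R).obj C)) :
    IsZero ((QQ R).obj C) :=
  isZero_of_van_nil fun m => van_nil_of_torsion (genD R m) (fun a ha n f => torsion_terms (h a ha) m n f) (hv m)

section Filtration

variable {r : ℕ} (t : Fin r → R) (C : CochainComplex (ModuleCat.{u} R) ℤ)

/-- Elements killed by powers of the first `j` generators. -/
def torSub (j : ℕ) (n : ℤ) : Submodule R (C.X n) where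
  carrier := {y | ∀ i : Fin r, i.1 < j → ∃ k : ℕ, t i ^ k • y = 0}
  zero_mem' := fun i _ => ⟨0, smul_zero _⟩
  add_mem' := fun {y z} hy hz i hi => by
    obtain ⟨k, hk⟩ := hy i hi
    obtain ⟨l, hl⟩ := hz i hi
    exact ⟨k + l, by rw [smul_add, pow_add, mul_smul _ _ z, hl, smul_zero, mul_comm, mul_smul, hk, smul_zero, add_zero]⟩
  smul_mem' := fun c y hy i hi => by
    obtain ⟨k, hk⟩ := hy i hi
    exact ⟨k, by rw [smul_comm, hk, smul_zero]⟩

theorem d_mem_torSub {j : ℕ} {p q : ℤ} {y : C.X p} (hy : y ∈ torSub t C j p) : C.d p q y ∈ torSub t C j q :=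
  fun i hi => by
    obtain ⟨k, hk⟩ := hy i hi
    exact ⟨k, by rw [← map_smul, hk, map_zero]⟩

/-- The subcomplex of elements killed by powers of the first `j` generators. -/
def torCx (j : ℕ) : CochainComplex (ModuleCat.{u} R) ℤ where
  X n := ModuleCat.of R (torSub t C j n)
  d p q := ModuleCat.ofHom (((C.d p q).hom.comp (torSub t C j p).subtype).codRestrict _ fun y => d_mem_torSub t C y.2)
  shape p q h := by
    refine ModuleCat.hom_ext (LinearMap.ext fun y => Subtype.ext ?_)
    change C.d p q y.1 = 0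
    rw [C.shape p q h]; rfl
  d_comp_d' p q s _ _ := by
    refine ModuleCat.hom_ext (LinearMap.ext fun y => Subtype.ext ?_)
    change C.d q s (C.d p q y.1) = 0
    rw [← ConcreteCategory.comp_apply, C.d_comp_d]; rfl

/-- Its inclusion. -/
def torι (j : ℕ) : torCx t C j ⟶ C where
  f n := ModuleCat.ofHom (torSub t C j n).subtype

/-- The inclusion of the next step. -/
def torStep (j : ℕ) : torCx t C (j + 1) ⟶ torCx t C j where
  f n := ModuleCat.ofHom (Submodule.inclusion (show torSub t C (j + 1) n ≤ torSub t C j n from fun _ hy i hi => hy i (Nat.lt_succ_of_lt hi)))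

theorem mono_torStep (j : ℕ) : Mono (torStep t C j) := by
  haveI : ∀ n, Mono ((torStep t C j).f n) := fun n => (ModuleCat.mono_iff_injective _).2 (Submodule.inclusion_injective (p := torSub t C (j + 1) n) (p' := torSub t C j n) fun _ hy i hi => hy i (Nat.lt_succ_of_lt hi))
  exact HomologicalComplex.mono_of_mono_f _ inferInstance

/-- A complex whose torsion part is acyclic and whose terms are divisible vanishes against the Koszul objects. -/
theorem van_of_div
    (hdiv : ∀ (n : ℤ) (j : ℕ) (hj : j < r), ∀ x ∈ torSub t C j n, ∃ y ∈ torSub t C j n, ∃ k : ℕ, t ⟨j, hj⟩ ^ k • (x - t ⟨j, hj⟩ • y) = 0)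
    {C' : CochainComplex (ModuleCat.{u} R) ℤ} (ι : C' ⟶ C) (hι : ∀ n, Function.Injective (ι.f n))
    (hr : ∀ n (y : C.X n), y ∈ Set.range (ι.f n) ↔ y ∈ torSub t C r n) (hC' : IsZero ((QQ R).obj C')) (m : ℤ) :
    Van (genD R m) (List.ofFn t) ((QQ R).obj C) := by
  have hr0 : IsZero ((QQ R).obj (torCx t C r)) := by
    let φ : C' ⟶ torCx t C r :=
      { f := fun n => ModuleCat.ofHom ((ι.f n).hom.codRestrict _ fun y => (hr n _).1 ⟨y, rfl⟩)
        comm' := fun p q _ => by
          refine ModuleCat.hom_ext (LinearMap.ext fun y => Subtype.ext ?_)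
          exact congr($(ι.comm p q) y) }
    haveI : ∀ n, IsIso (φ.f n) := fun n => (ConcreteCategory.isIso_iff_bijective _).2
      ⟨fun a b h => hι n (congrArg Subtype.val h), fun y => by
        obtain ⟨z, hz⟩ := (hr n y.1).2 y.2
        exact ⟨z, Subtype.ext hz⟩⟩
    haveI : IsIso φ := HomologicalComplex.Hom.isIso_of_components _
    exact hC'.of_iso (asIso ((QQ R).map φ)).symm
  have hstep : ∀ d j : ℕ, j + d = r → Van (genD R m) (List.ofFn t) ((QQ R).obj (torCx t C j)) := by
    intro d
    induction d with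
    | zero =>
      intro j hj
      obtain rfl : j = r := by omega
      exact van_of_isZero _ _ hr0
    | succ d ih =>
      intro j hj
      have hjr : j < r := by omega
      let S : ShortComplex (CochainComplex (ModuleCat.{u} R) ℤ) :=
        ShortComplex.mk (torStep t C j) (cokernel.π (torStep t C j)) (cokernel.condition _)
      haveI : Mono S.f := mono_torStep t C j
      haveI : Epi S.g := inferInstanceAs (Epi (cokernel.π (torStep t C j)))
      have hS : S.ShortExact := { exact := S.exact_of_g_is_cokernel (cokernelIsCokernel _) }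
      refine van_second _ _ _ (DerivedCategory.triangleOfSES_distinguished hS) (ih (j + 1) (by omega)) ?_
      refine van_of_isIso_smul _ (List.mem_ofFn.2 ⟨⟨j, hjr⟩, rfl⟩) fun n X => bijective_smul (fun i => ?_) n X
      haveI : ∀ i, PreservesFiniteLimits (HomologicalComplex.eval (ModuleCat.{u} R) (ComplexShape.up ℤ) i) :=
        fun i => inferInstance
      have hi := hS.map_of_exact (HomologicalComplex.eval (ModuleCat.{u} R) (ComplexShape.up ℤ) i)
      have hsurj : Function.Surjective (S.g.f i) := (ModuleCat.epi_iff_surjective _).1 hi.epi_g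
      have hex := (ShortComplex.moduleCat_exact_iff _).1 hi.exact
      have hz : ∀ z : (torCx t C (j + 1)).X i, S.g.f i ((torStep t C j).f i z) = 0 := fun z =>
        congr($(HomologicalComplex.congr_hom S.zero i) z)
      refine ⟨fun p q hpq => ?_, fun p => ?_⟩
      · obtain ⟨p, rfl⟩ := hsurj p
        obtain ⟨q, rfl⟩ := hsurj q
        change t ⟨j, hjr⟩ • S.g.f i p = t ⟨j, hjr⟩ • S.g.f i q at hpq
        have h0 : S.g.f i (t ⟨j, hjr⟩ • (p - q)) = 0 := by
          rw [map_smul, map_sub, smul_sub, hpq, sub_self]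
        obtain ⟨z, hz'⟩ := hex _ h0
        have hzv : z.1 = t ⟨j, hjr⟩ • (p.1 - q.1) := congrArg Subtype.val hz'
        have hmem : p.1 - q.1 ∈ torSub t C (j + 1) i := fun i' hi' => by
          rcases Nat.lt_succ_iff_lt_or_eq.1 hi' with h | h
          · exact Submodule.sub_mem _ p.2 q.2 i' h
          · obtain ⟨k, hk⟩ := z.2 i' hi'
            obtain rfl : i' = ⟨j, hjr⟩ := Fin.ext h
            exact ⟨k + 1, by rw [pow_succ, mul_smul, ← hzv, hk]⟩
        have h1 := hz ⟨_, hmem⟩
        rw [show (torStep t C j).f i ⟨_, hmem⟩ = p - q from Subtype.ext rfl, map_sub, sub_eq_zero] at h1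
        exact h1
      · obtain ⟨p, rfl⟩ := hsurj p
        obtain ⟨y, hy, k, hk⟩ := hdiv i j hjr p.1 p.2
        refine ⟨S.g.f i ⟨y, hy⟩, ?_⟩
        have hmem : p.1 - t ⟨j, hjr⟩ • y ∈ torSub t C (j + 1) i := fun i' hi' => by
          rcases Nat.lt_succ_iff_lt_or_eq.1 hi' with h | h
          · exact Submodule.sub_mem _ p.2 (Submodule.smul_mem _ _ hy) i' h
          · obtain rfl : i' = ⟨j, hjr⟩ := Fin.ext h
            exact ⟨k, hk⟩
        have h1 := hz ⟨_, hmem⟩
        rw [show (torStep t C j).f i ⟨_, hmem⟩ = p - t ⟨j, hjr⟩ • (show S.X₂.X i from ⟨y, hy⟩) from Subtype.ext rfl,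
          map_sub, map_smul, sub_eq_zero] at h1
        exact h1.symm
  haveI : ∀ n, IsIso ((torι t C 0).f n) := fun n => (ConcreteCategory.isIso_iff_bijective _).2
    ⟨fun a b h => Subtype.ext h, fun y => ⟨⟨y, fun i hi => absurd hi (Nat.not_lt_zero _)⟩, rfl⟩⟩
  haveI : IsIso (torι t C 0) := HomologicalComplex.Hom.isIso_of_components _
  exact van_of_iso _ _ (asIso ((QQ R).map (torι t C 0))) (hstep r 0 (Nat.zero_add r))

end Filtration

end Groth.L17.Tilde
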