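import Groth.Agent.L17.IndRpush.Tilde.Koszul
import Groth.Agent.L17.IndRpush.ColimUnbdd
import Mathlib.Algebra.Homology.DerivedCategory.ExactFunctor

/-!
# Coproducts, Koszul vanishing of cones, and derived categories
-/

set_option autoImplicit false
set_option linter.style.haveILetI false
set_option linter.unusedSectionVars false
set_option backward.defeqAttrib.useBackward true
set_option backward.isDefEq.respectTransparency false
set_option backward.isDefEq.respectTransparency.types false

universe w w' v u u' r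

open CategoryTheory CategoryTheory.Limits CategoryTheory.Pretriangulated

noncomputable section

namespace Groth.L17.Tilde

section Bij

variable {D : Type u} [Category.{v} D] [Preadditive D] [HasZeroObject D] [HasShift D ℤ]
  [∀ n : ℤ, (shiftFunctor D n).Additive] [Pretriangulated D]
  {R : Type r} [CommRing R] [Linear R D] (E : D)

/-- Postcomposition is bijective on maps out of the Koszul object into all shifts. -/
def Bij (l : List R) {X Y : D} (f : X ⟶ Y) : Prop :=
  ∀ n : ℤ, Function.Bijective fun g : koszul E l ⟶ X⟦n⟧ => g ≫ f⟦n⟧'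

theorem bij_of_van_obj₃ {l : List R} (T : Triangle D) (hT : T ∈ distTriang D) (h : Van E l T.obj₃) :
    Bij E l T.mor₁ := fun n => by
  refine ⟨fun a b hab => ?_, fun b => ?_⟩
  · rw [← sub_eq_zero]
    have h0 : (a - b) ≫ (shiftFunctor D n).map T.mor₁ = 0 := by rw [Preadditive.sub_comp, sub_eq_zero]; exact hab
    obtain ⟨g, hg⟩ := Triangle.coyoneda_exact₂ _ (Triangle.shift_distinguished _ (inv_rot_of_distTriang _ hT) n)
      (a - b) (by
        change (a - b) ≫ (n.negOnePow • (shiftFunctor D n).map T.mor₁) = 0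
        rw [Linear.comp_units_smul, h0, smul_zero])
    have hz : g = 0 := van_of_iso E l (Iso.refl _) (fun m f => by
      rw [← cancel_mono ((shiftFunctorAdd' D (-1 : ℤ) m (m - 1) (by omega)).app T.obj₃).inv, zero_comp]
      exact h (m - 1) _) n g
    rw [hg, hz, zero_comp]
  · obtain ⟨g, hg⟩ := Triangle.coyoneda_exact₂ _ (Triangle.shift_distinguished T hT n) b (h n _)
    refine ⟨(n.negOnePow : ℤˣ) • g, ?_⟩
    change ((n.negOnePow : ℤˣ) • g) ≫ (shiftFunctor D n).map T.mor₁ = b
    rw [Linear.units_smul_comp, ← Linear.comp_units_smul]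
    exact hg.symm

theorem van_of_bij {l : List R} (T : Triangle D) (hT : T ∈ distTriang D) (h : Bij E l T.mor₁) :
    Van E l T.obj₃ := fun n f => by
  obtain ⟨g, hg⟩ := Triangle.coyoneda_exact₂ _ (Triangle.shift_distinguished _ (rot_of_distTriang _ hT) n) f (by
    change f ≫ (n.negOnePow • (shiftFunctor D n).map T.mor₃) = 0
    rw [Linear.comp_units_smul]
    let e := (shiftFunctorAdd' D (1 : ℤ) n (n + 1) (by omega)).app T.obj₁
    let e₂ := (shiftFunctorAdd' D (1 : ℤ) n (n + 1) (by omega)).app T.obj₂
    have h0 : (shiftFunctor D n).map T.mor₃ ≫ (shiftFunctor D n).map ((shiftFunctor D (1 : ℤ)).map T.mor₁) = 0 := by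
      rw [← Functor.map_comp, comp_distTriang_mor_zero₃₁ _ hT, Functor.map_zero]
    have hn : (shiftFunctor D n).map ((shiftFunctor D (1 : ℤ)).map T.mor₁) ≫ e₂.inv =
        e.inv ≫ (shiftFunctor D (n + 1)).map T.mor₁ :=
      (shiftFunctorAdd' D (1 : ℤ) n (n + 1) (by omega)).inv.naturality T.mor₁
    have h1 : (f ≫ (shiftFunctor D n).map T.mor₃) ≫ e.inv = 0 := by
      refine (h (n + 1)).injective ?_
      refine Eq.trans ?_ zero_comp.symm
      rw [Category.assoc, Category.assoc]
      refine (congrArg (fun q => f ≫ (shiftFunctor D n).map T.mor₃ ≫ q) hn.symm).trans ?_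
      rw [reassoc_of% h0]
      simp
    rw [← cancel_mono e.inv, zero_comp, Linear.units_smul_comp, h1, smul_zero])
  obtain ⟨g', hg'⟩ := (h n).surjective g
  have h2 : (shiftFunctor D n).map T.mor₁ ≫ (shiftFunctor D n).map T.mor₂ = 0 := by
    rw [← Functor.map_comp, comp_distTriang_mor_zero₁₂ _ hT, Functor.map_zero]
  rw [hg]
  change g ≫ (n.negOnePow • (shiftFunctor D n).map T.mor₂) = 0
  rw [← hg', Linear.comp_units_smul, Category.assoc, h2, comp_zero, smul_zero]

theorem bij_of_iso {l : List R} {X Y X' Y' : D} {f : X ⟶ Y} {f' : X' ⟶ Y'} (a : X ≅ X') (b : Y ≅ Y')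
    (w : f ≫ b.hom = a.hom ≫ f') (h : Bij E l f) : Bij E l f' := fun n => by
  have : (fun g : koszul E l ⟶ X'⟦n⟧ => g ≫ (shiftFunctor D n).map f') =
      (fun g => g ≫ (shiftFunctor D n).map b.hom) ∘ (fun g => g ≫ (shiftFunctor D n).map f) ∘
        fun g => g ≫ (shiftFunctor D n).map a.inv := by
    funext g
    simp only [Function.comp_apply, Category.assoc, ← Functor.map_comp, w, Iso.inv_hom_id_assoc]
  rw [this]
  exact (((Iso.refl _).homCongr ((shiftFunctor D n).mapIso b)).bijective.comp (h n)).comp
    ((Iso.refl _).homCongr ((shiftFunctor D n).mapIso a.symm)).bijective |> fun hh => by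
      simpa [Function.comp_def, Iso.homCongr] using hh

theorem bij_sigma [HasCoproducts.{v} D] (hE : CohDer.IsCompactObject E) {l : List R} {ι : Type v}
    {X Y : ι → D} (f : ∀ i, X i ⟶ Y i) (h : ∀ i, Bij E l (f i)) : Bij E l (Limits.Sigma.map f) := fun n => by
  classical
  haveI : PreservesColimitsOfShape (Discrete ι) (shiftFunctor D n) :=
    inferInstanceAs (PreservesColimitsOfShape (Discrete ι) (shiftEquiv D n).functor)
  let eX : (∐ fun i => (X i)⟦n⟧) ≅ (∐ X)⟦n⟧ := asIso (sigmaComparison (shiftFunctor D n) X)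
  let eY : (∐ fun i => (Y i)⟦n⟧) ≅ (∐ Y)⟦n⟧ := asIso (sigmaComparison (shiftFunctor D n) Y)
  let φ : ∀ i, (koszul E l ⟶ (X i)⟦n⟧) →+ (koszul E l ⟶ (Y i)⟦n⟧) := fun i =>
    Preadditive.rightComp (koszul E l) ((shiftFunctor D n).map (f i))
  have hK := isCompact_koszul E hE l ι
  have key : ∀ x, (CohDer.homSumToHomCoprod (koszul E l) (fun i => (X i)⟦n⟧) x ≫ eX.hom) ≫
      (shiftFunctor D n).map (Limits.Sigma.map f) =
      CohDer.homSumToHomCoprod (koszul E l) (fun i => (Y i)⟦n⟧) (DirectSum.map φ x) ≫ eY.hom := by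
    intro x
    induction x using DirectSum.induction_on with
    | zero => simp
    | of i g =>
      rw [DirectSum.map_of, Groth.L10.homSum_of, Groth.L10.homSum_of]
      simp only [eX, eY, asIso_hom, Category.assoc, ι_comp_sigmaComparison_assoc, ι_comp_sigmaComparison, φ]
      rw [← Functor.map_comp, Sigma.ι_map, Functor.map_comp]
      exact (Category.assoc _ _ _).symm
    | add a b ha hb => simp only [map_add, Preadditive.add_comp, ha, hb]
  refine ⟨fun a b hab => ?_, fun b => ?_⟩
  · obtain ⟨x, hx⟩ := (hK _).2 (a ≫ eX.inv)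
    obtain ⟨y, hy⟩ := (hK _).2 (b ≫ eX.inv)
    have ha : a = CohDer.homSumToHomCoprod _ _ x ≫ eX.hom := by rw [hx, Category.assoc, Iso.inv_hom_id, Category.comp_id]
    have hb : b = CohDer.homSumToHomCoprod _ _ y ≫ eX.hom := by rw [hy, Category.assoc, Iso.inv_hom_id, Category.comp_id]
    subst ha hb
    change _ ≫ _ = _ ≫ _ at hab
    rw [key, key, cancel_mono] at hab
    rw [(DirectSum.map_injective φ).2 (fun i => (h i n).injective) ((hK _).1 hab)]
  · obtain ⟨y, hy⟩ := (hK _).2 (b ≫ eY.inv)
    obtain ⟨x, rfl⟩ := (DirectSum.map_surjective φ).2 (fun i => (h i n).surjective) y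
    refine ⟨CohDer.homSumToHomCoprod _ _ x ≫ eX.hom, ?_⟩
    change _ ≫ _ = b
    rw [key, hy, Category.assoc, Iso.inv_hom_id, Category.comp_id]

end Bij

section MapDerived

variable {A : Type u} [Category.{v} A] [Abelian A] [IsGrothendieckAbelian.{v} A] [HasDerivedCategory.{w} A]
  {B : Type u'} [Category.{v} B] [Abelian B] [IsGrothendieckAbelian.{v} B] [HasDerivedCategory.{w'} B]
  (F : A ⥤ B) [F.Additive] [PreservesFiniteLimits F] [PreservesFiniteColimits F]

/-- Exact coproduct preserving functors preserve coproducts in the derived categories. -/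
theorem preservesColimit_mapDerived [PreservesColimitsOfSize.{v, v} F] {ι : Type v} (K : ι → DerivedCategory A) :
    PreservesColimit (Discrete.functor K) F.mapDerivedCategory := by
  let C : ι → CochainComplex A ℤ := fun i => DerivedCategory.Q.objPreimage (K i)
  let G := F.mapHomologicalComplex (ComplexShape.up ℤ)
  haveI : PreservesColimitsOfShape (Discrete ι) G := inferInstance
  obtain ⟨hA⟩ := IndRpush.ColimDer.isColimit_Q_cofan C
  obtain ⟨hB⟩ := IndRpush.ColimDer.isColimit_Q_cofan fun i => G.obj (C i)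
  let φ := F.mapDerivedCategoryFactors
  let e : Discrete.functor (fun i => DerivedCategory.Q.obj (C i)) ≅ Discrete.functor K :=
    Discrete.natIso fun i => DerivedCategory.Q.objObjPreimageIso (K i.as)
  haveI : PreservesColimit (Discrete.functor fun i => DerivedCategory.Q.obj (C i)) F.mapDerivedCategory := by
    refine preservesColimit_of_preserves_colimit_cocone hA ?_
    refine (isColimitMapCoconeCofanMkEquiv F.mapDerivedCategory _ _).symm ?_
    refine (IsColimit.precomposeInvEquiv (Discrete.natIso fun i => φ.app (C i.as) :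
      Discrete.functor (fun i => F.mapDerivedCategory.obj (DerivedCategory.Q.obj (C i))) ≅
        Discrete.functor fun i => DerivedCategory.Q.obj (G.obj (C i))) _).1 (hB.ofIsoColimit (Cocone.ext
      (DerivedCategory.Q.mapIso (asIso (sigmaComparison G C)) ≪≫ (φ.app (∐ C)).symm) fun i => ?_))
    change DerivedCategory.Q.map (Sigma.ι (fun i => G.obj (C i)) i.as) ≫ DerivedCategory.Q.map (sigmaComparison G C) ≫
      φ.inv.app (∐ C) = φ.inv.app (C i.as) ≫ F.mapDerivedCategory.map (DerivedCategory.Q.map (Sigma.ι C i.as))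
    rw [← Functor.map_comp_assoc, ι_comp_sigmaComparison]
    exact φ.inv.naturality (Sigma.ι C i.as)
  exact preservesColimit_of_iso_diagram _ e

end MapDerived

end Groth.L17.Tilde
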