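import Groth.Agent.L17.IndRpush.Tilde.Local
import Groth.Agent.L17.IndRpush.Tilde.Derived
import Groth.Agent.L29.DCoh.Gen.RpushTri
import Groth.Agent.L10.UnitIso

/-!
# The derived torsion functor of a locally Noetherian formal scheme preserves coproducts
-/

set_option autoImplicit false
set_option linter.style.haveILetI false
set_option linter.unusedSectionVars false
set_option backward.defeqAttrib.useBackward true
set_option backward.isDefEq.respectTransparency false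
set_option backward.isDefEq.respectTransparency.types false

universe u

open CategoryTheory CategoryTheory.Limits CategoryTheory.Pretriangulated AlgebraicGeometry TopologicalSpace Opposite DerivedCategory

attribute [local instance] HasDerivedCategory.standard

noncomputable section

/-- shortcut instance -/
local instance (priority := 10000) abModF (𝔛 : FSch.Sys.{u}) (h : 𝔛.IsFormal) : Abelian (FSch.ModF 𝔛 h) :=
  inferInstance

namespace Groth.L17.Tilde

open Groth.L17.FSheaf Groth.L09.IndCoh Groth.L28.QCT Groth.L04.FTorsD Groth.L04.FTorsD.Coreflect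

variable {𝔛 : FSch.Sys.{u}} (hX : 𝔛.IsLocNoethFormal) [_root_.FTors.HasRgammaT 𝔛 hX.1]

theorem isDTorsF_RgammaT (E : DerivedCategory (FSch.ModF 𝔛 hX.1)) :
    _root_.FTors.IsDTorsF 𝔛 hX.1 ((_root_.FTors.RgammaT 𝔛 hX.1).obj E) := fun n => by
  haveI : IsGrothendieckAbelian.{u} (FSch.ModF 𝔛 hX.1) := Groth.L10.shMod_isGrothendieckAbelian _
  obtain ⟨R, hR, ⟨e⟩⟩ := exists_rep E
  haveI := isIso_toR (_root_.FTors.openIdealFam 𝔛 hX.1) R
  exact isTorsF_of_iso hX ((hdIso ((gCx hX).obj R) n).symm ≪≫ (DerivedCategory.homologyFunctor _ n).mapIso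
    (asIso (toR (_root_.FTors.openIdealFam 𝔛 hX.1) R) ≪≫ (_root_.FTors.RgammaT 𝔛 hX.1).mapIso e))
    (isTorsF_homology_gCx hX R n)

theorem isIso_ε {E : DerivedCategory (FSch.ModF 𝔛 hX.1)} (h : _root_.FTors.IsDTorsF 𝔛 hX.1 E) :
    IsIso ((_root_.FTors.RgammaTε 𝔛 hX.1).app E) :=
  (isDTors_iff_isIso (_root_.FTors.openIdealFam 𝔛 hX.1) (fun e h => isTorsF_of_iso hX e h)
    (isTorsF_homology_gCx hX) (fun R _ hR => quasiIso_gι hX R hR) E).1 h

theorem bijective_ε {E : DerivedCategory (FSch.ModF 𝔛 hX.1)} (hE : _root_.FTors.IsDTorsF 𝔛 hX.1 E)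
    (F : DerivedCategory (FSch.ModF 𝔛 hX.1)) :
    Function.Bijective (fun φ : E ⟶ (_root_.FTors.RgammaT 𝔛 hX.1).obj F => φ ≫ (_root_.FTors.RgammaTε 𝔛 hX.1).app F) :=
  bijective_comp_ε (_root_.FTors.openIdealFam 𝔛 hX.1) (fun e h => isTorsF_of_iso hX e h) (isTorsF_homology_gCx hX)
    (isIso_gι_gCx hX) (isIso_gCx_gι hX) (fun R _ hR => quasiIso_gι hX R hR) E F hE

/-- Triangulated structure. -/
@[instance_reducible]
def commShiftΓ : (_root_.FTors.RgammaT 𝔛 hX.1).CommShift ℤ :=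
  haveI : IsGrothendieckAbelian.{u} (FSch.ModF 𝔛 hX.1) := Groth.L10.shMod_isGrothendieckAbelian _
  Groth.L29.DC.RDTri.commShift ((_root_.FTors.gammaKh (_root_.FTors.openIdealFam 𝔛 hX.1)).totalRightDerivedUnit
    DerivedCategory.Qh (HomotopyCategory.quasiIso (FSch.ModF 𝔛 hX.1) (ComplexShape.up ℤ)))

theorem isTriangulatedΓ : letI := commShiftΓ hX; (_root_.FTors.RgammaT 𝔛 hX.1).IsTriangulated :=
  haveI : IsGrothendieckAbelian.{u} (FSch.ModF 𝔛 hX.1) := Groth.L10.shMod_isGrothendieckAbelian _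
  Groth.L29.DC.RDTri.isTriangulated _

variable (y : 𝔛.X 0) [HasDerivedCategory.{u} (ModuleCat.{u} (Ox (𝔛.Osh hX.1) y))]

/-- The derived stalk functor. -/
def stD : DerivedCategory (FSch.ModF 𝔛 hX.1) ⥤ DerivedCategory (ModuleCat.{u} (Ox (𝔛.Osh hX.1) y)) :=
  haveI := preservesFiniteLimits_stMod (𝔛.Osh hX.1) y
  haveI := preservesFiniteColimits_stMod (𝔛.Osh hX.1) y
  (stMod (𝔛.Osh hX.1) y).mapDerivedCategory

instance commShift_stD : (stD hX y).CommShift ℤ :=
  haveI := preservesFiniteLimits_stMod (𝔛.Osh hX.1) y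
  haveI := preservesFiniteColimits_stMod (𝔛.Osh hX.1) y
  inferInstanceAs ((stMod (𝔛.Osh hX.1) y).mapDerivedCategory.CommShift ℤ)

instance isTriangulated_stD : (stD hX y).IsTriangulated :=
  haveI := preservesFiniteLimits_stMod (𝔛.Osh hX.1) y
  haveI := preservesFiniteColimits_stMod (𝔛.Osh hX.1) y
  inferInstanceAs ((stMod (𝔛.Osh hX.1) y).mapDerivedCategory.IsTriangulated)

theorem preservesColimit_stD {ι : Type u} (K : ι → DerivedCategory (FSch.ModF 𝔛 hX.1)) :
    PreservesColimit (Discrete.functor K) (stD hX y) := by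
  haveI : IsGrothendieckAbelian.{u} (FSch.ModF 𝔛 hX.1) := Groth.L10.shMod_isGrothendieckAbelian _
  haveI := preservesFiniteLimits_stMod (𝔛.Osh hX.1) y
  haveI := preservesFiniteColimits_stMod (𝔛.Osh hX.1) y
  haveI := preservesColimits_stMod (𝔛.Osh hX.1) y
  exact preservesColimit_mapDerived (stMod (𝔛.Osh hX.1) y) K

/-- The derived stalk of a complex. -/
def stDIso (K : CochainComplex (FSch.ModF 𝔛 hX.1) ℤ) : (stD hX y).obj (qq.obj K) ≅ (QQ _).obj (stCx hX y K) :=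
  haveI := preservesFiniteLimits_stMod (𝔛.Osh hX.1) y
  haveI := preservesFiniteColimits_stMod (𝔛.Osh hX.1) y
  (stMod (𝔛.Osh hX.1) y).mapDerivedCategory.mapIso ((DerivedCategory.quotientCompQhIso _).app K) ≪≫
    (stMod (𝔛.Osh hX.1) y).mapDerivedCategoryFactors.app K

variable [HasCoproducts.{u} (DerivedCategory (ModuleCat.{u} (Ox (𝔛.Osh hX.1) y)))]
  {U : (𝔛.X 0).Opens} (hU : IsAffineOpen U) (hy : y ∈ U) {r : ℕ} (t : Fin r → O 𝔛 hX.1 U)
  (ht : Ideal.span (Set.range t) = J 𝔛 hX.1 U)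

/-- Vanishing of the stalk against the Koszul objects. -/
def VanAt (E : DerivedCategory (FSch.ModF 𝔛 hX.1)) : Prop :=
  ∀ m, Van (genD _ m) (List.ofFn (tg hX y hy t)) ((stD hX y).obj E)

include hU hy ht in
theorem vanAt_of_isZero {E : DerivedCategory (FSch.ModF 𝔛 hX.1)}
    (h : IsZero ((_root_.FTors.RgammaT 𝔛 hX.1).obj E)) : VanAt hX y hy t E := fun m => by
  haveI : IsGrothendieckAbelian.{u} (FSch.ModF 𝔛 hX.1) := Groth.L10.shMod_isGrothendieckAbelian _
  let M := Q.objPreimage E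
  let R := Groth.L10.KInjRes.res M
  let e : qq.obj R ≅ E :=
    (quotientCompQhIso _).app _ ≪≫ (asIso (Q.map (Groth.L10.KInjRes.resι M))).symm ≪≫ Q.objObjPreimageIso E
  haveI := isIso_toR (_root_.FTors.openIdealFam 𝔛 hX.1) R
  have h0 : IsZero ((QQ _).obj (stCx hX y ((gCx hX).obj R))) :=
    ((stD hX y).map_isZero (h.of_iso (asIso (toR (_root_.FTors.openIdealFam 𝔛 hX.1) R) ≪≫
      (_root_.FTors.RgammaT 𝔛 hX.1).mapIso e))).of_iso (stDIso hX y _).symm
  exact van_of_iso _ _ ((stDIso hX y R).symm ≪≫ (stD hX y).mapIso e)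
    (van_stCx_of_gamma hX y hU hy t ht R (fun _ => inferInstance) h0 m)

include hU hy ht in
theorem isZero_stalk_of_vanAt {E : DerivedCategory (FSch.ModF 𝔛 hX.1)} (hE : _root_.FTors.IsDTorsF 𝔛 hX.1 E)
    (h : VanAt hX y hy t E) (n : ℤ) :
    IsZero ((stMod (𝔛.Osh hX.1) y).obj ((DerivedCategory.homologyFunctor (FSch.ModF 𝔛 hX.1) n).obj E)) := by
  haveI : IsGrothendieckAbelian.{u} (FSch.ModF 𝔛 hX.1) := Groth.L10.shMod_isGrothendieckAbelian _
  obtain ⟨R, hR, ⟨e⟩⟩ := exists_rep E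
  haveI := isIso_toR (_root_.FTors.openIdealFam 𝔛 hX.1) R
  haveI := isIso_ε hX hE
  let e' : qq.obj ((gCx hX).obj R) ≅ E :=
    asIso (toR (_root_.FTors.openIdealFam 𝔛 hX.1) R) ≪≫ (_root_.FTors.RgammaT 𝔛 hX.1).mapIso e ≪≫
      asIso ((_root_.FTors.RgammaTε 𝔛 hX.1).app E)
  have h0 := isZero_stCx_of_van hX y hU hy t ht ((gCx hX).obj R) (fun k => isTorsF_Γt (R.X k)) fun m =>
    van_of_iso _ _ ((stD hX y).mapIso e'.symm ≪≫ stDIso hX y _) (h m)
  exact (isZero_stMod_homology hX y _ h0 n).of_iso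
    ((stMod (𝔛.Osh hX.1) y).mapIso ((DerivedCategory.homologyFunctor _ n).mapIso e'.symm ≪≫ hdIso _ n))

end Groth.L17.Tilde
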