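import Groth.Agent.L10.Compact
import Mathlib.CategoryTheory.Linear.Basic
import Mathlib.CategoryTheory.Triangulated.Pretriangulated
import Mathlib.CategoryTheory.Triangulated.Yoneda

/-!
# Vanishing against Koszul objects in a linear triangulated category
-/

set_option autoImplicit false
set_option linter.style.haveILetI false
set_option linter.unusedSectionVars false
set_option backward.isDefEq.respectTransparency false

universe v u r

open CategoryTheory CategoryTheory.Limits CategoryTheory.Pretriangulated

noncomputable section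

namespace Groth.L17.Tilde

variable {D : Type u} [Category.{v} D] [Preadditive D] [HasZeroObject D] [HasShift D ℤ]
  [∀ n : ℤ, (shiftFunctor D n).Additive] [Pretriangulated D]
  {R : Type r} [CommRing R] [Linear R D] (E : D)

/-- The iterated cone of multiplication by the elements of a list. -/
def koszul : List R → D
  | [] => E
  | a :: l => (distinguished_cocone_triangle (a • 𝟙 (koszul l))).choose

/-- The map from the previous Koszul object. -/
def koszulIn (a : R) (l : List R) : koszul E l ⟶ koszul E (a :: l) :=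
  (distinguished_cocone_triangle (a • 𝟙 (koszul E l))).choose_spec.choose

/-- The connecting map of Koszul objects. -/
def koszulOut (a : R) (l : List R) : koszul E (a :: l) ⟶ (koszul E l)⟦(1 : ℤ)⟧ :=
  (distinguished_cocone_triangle (a • 𝟙 (koszul E l))).choose_spec.choose_spec.choose

theorem koszul_distinguished (a : R) (l : List R) :
    Triangle.mk (a • 𝟙 (koszul E l)) (koszulIn E a l) (koszulOut E a l) ∈ distTriang D :=
  (distinguished_cocone_triangle (a • 𝟙 (koszul E l))).choose_spec.choose_spec.choose_spec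

/-- No nonzero maps from the Koszul object to the shifts. -/
def Van (l : List R) (C : D) : Prop := ∀ (n : ℤ) (f : koszul E l ⟶ C⟦n⟧), f = 0

theorem van_of_iso (l : List R) {C C' : D} (e : C ≅ C') (h : Van E l C) : Van E l C' := fun n f => by
  rw [← cancel_mono ((shiftFunctor D n).map e.inv), zero_comp]
  exact h n _

theorem van_of_isZero (l : List R) {C : D} (h : IsZero C) : Van E l C := fun n f =>
  ((shiftFunctor D n).map_isZero h).eq_of_tgt f 0

theorem van_second (l : List R) (T : Triangle D) (hT : T ∈ distTriang D) (h₁ : Van E l T.obj₁) (h₃ : Van E l T.obj₃) :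
    Van E l T.obj₂ := fun n f => by
  obtain ⟨g, hg⟩ := Triangle.coyoneda_exact₂ _ (Triangle.shift_distinguished T hT n) f (h₃ n _)
  rw [hg, h₁ n g, zero_comp]

/-- Maps from the shift of a Koszul object. -/
theorem eq_zero_of_shift {l : List R} {C : D} (h : Van E l C) (n : ℤ) (f : (koszul E l)⟦(1 : ℤ)⟧ ⟶ C⟦n⟧) : f = 0 := by
  refine (shiftFunctor D (-1 : ℤ)).map_injective ?_
  rw [Functor.map_zero, ← cancel_epi (((shiftShiftNeg (koszul E l) (1 : ℤ))).inv),
    ← cancel_mono ((shiftFunctorAdd' D n (-1) (n - 1) (by omega)).app C).inv, comp_zero, zero_comp]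
  exact h (n - 1) _

theorem van_cons_of_van {a : R} {l : List R} {C : D} (h : Van E l C) : Van E (a :: l) C := fun n f => by
  obtain ⟨g, hg⟩ := Triangle.yoneda_exact₃ _ (koszul_distinguished E a l) f (h n _)
  rw [hg, eq_zero_of_shift E h n g, comp_zero]

/-- Multiplication is bijective on maps out of the previous Koszul object. -/
theorem van_cons_of_bijective {a : R} {l : List R} {C : D}
    (h : ∀ n : ℤ, Function.Bijective fun f : koszul E l ⟶ C⟦n⟧ => a • f) : Van E (a :: l) C := fun n f => by
  have hin : koszulIn E a l ≫ f = 0 := by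
    refine (h n).injective ?_
    change a • (koszulIn E a l ≫ f) = a • 0
    have h0 : (a • 𝟙 (koszul E l)) ≫ koszulIn E a l = 0 :=
      comp_distTriang_mor_zero₁₂ _ (koszul_distinguished E a l)
    rw [smul_zero, ← Category.id_comp (koszulIn E a l ≫ f), ← Linear.smul_comp, ← Category.assoc, h0, zero_comp]
  obtain ⟨g, hg⟩ := Triangle.yoneda_exact₃ _ (koszul_distinguished E a l) f hin
  -- `g` comes from the shifted object, on which the multiplication is surjective
  let e := ((shiftFunctorAdd' D (n - 1) 1 n (by omega)).app C)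
  obtain ⟨g₀, hg₀⟩ := (shiftFunctor D (1 : ℤ)).map_surjective (g ≫ e.hom)
  obtain ⟨g₁, hg₁⟩ := (h (n - 1)).surjective g₀
  have hg₂ : g = (a • 𝟙 (koszul E l))⟦(1 : ℤ)⟧' ≫ (shiftFunctor D (1 : ℤ)).map g₁ ≫ e.inv := by
    rw [← Functor.map_comp_assoc, Linear.smul_comp, Category.id_comp]
    change g = (shiftFunctor D (1 : ℤ)).map ((fun f => a • f) g₁) ≫ e.inv
    rw [hg₁, hg₀, Category.assoc, Iso.hom_inv_id, Category.comp_id]
  have h0 : koszulOut E a l ≫ (a • 𝟙 (koszul E l))⟦(1 : ℤ)⟧' = 0 :=
    comp_distTriang_mor_zero₃₁ _ (koszul_distinguished E a l)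
  rw [hg]
  change koszulOut E a l ≫ g = 0
  rw [hg₂, ← Category.assoc, h0, zero_comp]

theorem injective_of_van_cons {a : R} {l : List R} {C : D} (h : Van E (a :: l) C) (n : ℤ)
    (f : koszul E l ⟶ C⟦n⟧) (hf : a • f = 0) : f = 0 := by
  obtain ⟨g, hg⟩ := Triangle.yoneda_exact₂ _ (koszul_distinguished E a l) f (by
    change (a • 𝟙 (koszul E l)) ≫ f = 0
    rw [Linear.smul_comp, Category.id_comp, hf])
  rw [hg, h n g, comp_zero]

/-- A multiplication acting invertibly on the target kills the Koszul object. -/
theorem van_of_isIso_smul {a : R} {l : List R} (ha : a ∈ l) {C : D}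
    (hC : ∀ (n : ℤ) (X : D), Function.Bijective fun f : X ⟶ C⟦n⟧ => a • f) : Van E l C := by
  induction l with
  | nil => simp at ha
  | cons b l ih =>
    rcases List.mem_cons.1 ha with rfl | h
    · exact van_cons_of_bijective E fun n => hC n _
    · exact van_cons_of_van E (ih h)

/-- Torsion against the base object gives torsion against the Koszul objects. -/
theorem torsion_koszul [∀ n : ℤ, (shiftFunctor D n).Linear R] {a : R} {C : D}
    (h : ∀ (n : ℤ) (f : E ⟶ C⟦n⟧), ∃ k : ℕ, a ^ k • f = 0) :
    ∀ (l : List R) (n : ℤ) (f : koszul E l ⟶ C⟦n⟧), ∃ k : ℕ, a ^ k • f = 0 := by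
  intro l
  induction l with
  | nil => exact h
  | cons b l ih =>
    intro n f
    obtain ⟨p, hp⟩ := ih n (koszulIn E b l ≫ f)
    obtain ⟨g, hg⟩ := Triangle.yoneda_exact₃ _ (koszul_distinguished E b l) (a ^ p • f) (by
      change koszulIn E b l ≫ (a ^ p • f) = 0
      rw [Linear.comp_smul, hp])
    let e := ((shiftFunctorAdd' D (n - 1) 1 n (by omega)).app C)
    obtain ⟨g₀, hg₀⟩ := (shiftFunctor D (1 : ℤ)).map_surjective (g ≫ e.hom)
    obtain ⟨q, hq⟩ := ih (n - 1) g₀
    have hgq : a ^ q • g = 0 := by
      rw [← cancel_mono e.hom, Linear.smul_comp, ← hg₀, ← Functor.map_smul, hq, Functor.map_zero, zero_comp]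
    refine ⟨q + p, ?_⟩
    rw [pow_add, mul_smul, hg, ← Linear.comp_smul, hgq, comp_zero]

/-- Torsion objects are detected by the Koszul object. -/
theorem van_nil_of_torsion [∀ n : ℤ, (shiftFunctor D n).Linear R] {l : List R} {C : D}
    (h : ∀ a ∈ l, ∀ (n : ℤ) (f : E ⟶ C⟦n⟧), ∃ k : ℕ, a ^ k • f = 0) (hl : Van E l C) :
    Van E ([] : List R) C := by
  induction l with
  | nil => exact hl
  | cons a l ih =>
    refine ih (fun b hb => h b (List.mem_cons_of_mem _ hb)) fun n f => ?_
    obtain ⟨k, hk⟩ := torsion_koszul E (h a List.mem_cons_self) l n f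
    induction k with
    | zero => simpa using hk
    | succ k ihk => exact ihk (injective_of_van_cons E hl n _ (by rwa [← mul_smul, ← pow_succ']))

theorem isCompact_of_iso [HasCoproducts.{v} D] {K L : D} (e : K ≅ L) (hK : CohDer.IsCompactObject K) :
    CohDer.IsCompactObject L := fun ι X => by
  classical
  have hb := hK ι X
  refine ⟨fun a b hab => ?_, fun g => ?_⟩
  · have : DirectSum.map (fun i => Preadditive.leftComp (X i) e.hom) a =
        DirectSum.map (fun i => Preadditive.leftComp (X i) e.hom) b :=
      hb.1 (by rw [Groth.L10.homSum_map, Groth.L10.homSum_map, hab])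
    exact (DirectSum.map_injective _).2 (fun i x y hxy => (cancel_epi e.hom).1 hxy) this
  · obtain ⟨x, hx⟩ := hb.2 (e.hom ≫ g)
    exact ⟨DirectSum.map (fun i => Preadditive.leftComp (X i) e.inv) x, by simp [Groth.L10.homSum_map, hx]⟩

/-- Koszul objects of a compact object are compact. -/
theorem isCompact_koszul [HasCoproducts.{v} D] (hE : CohDer.IsCompactObject E) :
    ∀ l : List R, CohDer.IsCompactObject (koszul E l) := by
  have h3 := Groth.L10.s0475 (D := D)
  intro l
  induction l with
  | nil => exact hE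
  | cons a l ih =>
    haveI := h3
    obtain ⟨K, hK, ⟨e⟩⟩ := ObjectProperty.ext_of_isTriangulatedClosed₃' (fun K : D => CohDer.IsCompactObject K) _
      (koszul_distinguished E a l) ih ih
    exact isCompact_of_iso e.symm hK

/-- Vanishing passes to coproducts. -/
theorem van_sigma [HasCoproducts.{v} D] (hE : CohDer.IsCompactObject E) {l : List R} {ι : Type v} (C : ι → D)
    (h : ∀ i, Van E l (C i)) : Van E l (∐ C) := fun n f => by
  haveI : PreservesColimitsOfShape (Discrete ι) (shiftFunctor D n) :=
    inferInstanceAs (PreservesColimitsOfShape (Discrete ι) (shiftEquiv D n).functor)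
  let e : (∐ fun i => (C i)⟦n⟧) ≅ (∐ C)⟦n⟧ := asIso (sigmaComparison (shiftFunctor D n) C)
  classical
  obtain ⟨x, hx⟩ := (isCompact_koszul E hE l ι fun i => (C i)⟦n⟧).2 (f ≫ e.inv)
  have h0 : x = 0 := DFinsupp.ext fun i => h i n _
  rw [h0, map_zero] at hx
  rw [← cancel_mono e.inv, ← hx, zero_comp]

end Groth.L17.Tilde
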