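import Groth.Agent.L17.IndRpush.Tilde.Alg
import Groth.Agent.L17.IndRpush.Tilde.Stalk
import Groth.Agent.L04.FTorsD.Derived
import Mathlib.Algebra.Homology.DerivedCategory.ExactFunctor

/-!
# Stalks of torsion complexes and of complexes without derived torsion on formal schemes
-/

set_option autoImplicit false
set_option linter.style.haveILetI false
set_option linter.unusedSectionVars false
set_option backward.defeqAttrib.useBackward true
set_option backward.isDefEq.respectTransparency false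
set_option backward.isDefEq.respectTransparency.types false

universe u

open CategoryTheory CategoryTheory.Limits AlgebraicGeometry TopologicalSpace Opposite DerivedCategory

attribute [local instance] HasDerivedCategory.standard

noncomputable section

namespace Groth.L17.Tilde

open Groth.L17.FSheaf Groth.L09.IndCoh Groth.L28.QCT Groth.L04.FTorsD

variable {𝔛 : FSch.Sys.{u}} (hX : 𝔛.IsLocNoethFormal) (x : 𝔛.X 0)

/-- Germs of the generators. -/
def tg {U : (𝔛.X 0).Opens} (hx : x ∈ U) {r : ℕ} (t : Fin r → O 𝔛 hX.1 U) (i : Fin r) : Ox (𝔛.Osh hX.1) x :=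
  TopCat.Presheaf.germ ((𝔛.Osh hX.1).obj : TopCat.Presheaf CommRingCat.{u} _) U x hx (t i)

theorem germ_rsF {M : FSch.ModF 𝔛 hX.1} {U V : (𝔛.X 0).Opens} (e : V ≤ U) (hx : x ∈ V) (s : SF 𝔛 hX.1 M U) :
    germ (𝔛.Osh hX.1) x M hx (rsF M e s) = germ (𝔛.Osh hX.1) x M (e hx) s :=
  TopCat.Presheaf.germ_res_apply (pre (𝔛.Osh hX.1) M).presheaf (homOfLE e) x hx s

theorem germ_smul_res {M : FSch.ModF 𝔛 hX.1} {U V : (𝔛.X 0).Opens} (hx : x ∈ U) {r : ℕ} (t : Fin r → O 𝔛 hX.1 U)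
    (e : V ≤ U) (hxV : x ∈ V) (i : Fin r) (k : ℕ) (s : SF 𝔛 hX.1 M V) :
    germ (𝔛.Osh hX.1) x M hxV (resO 𝔛 hX.1 e (t i) ^ k • s) =
      tg hX x hx t i ^ k • germ (𝔛.Osh hX.1) x M hxV s := by
  refine (PresheafOfModules.germ_smul (pre (𝔛.Osh hX.1) M) x V hxV _ _).trans ?_
  refine congrArg (· • _) ?_
  rw [map_pow]
  exact congrArg (· ^ k) (TopCat.Presheaf.germ_res_apply ((𝔛.Osh hX.1).obj : TopCat.Presheaf CommRingCat.{u} _)
    (homOfLE e) x hxV (t i))

theorem exists_germ {M : FSch.ModF 𝔛 hX.1} (y : (stMod (𝔛.Osh hX.1) x).obj M) {U : (𝔛.X 0).Opens} (hx : x ∈ U) :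
    ∃ (V : (𝔛.X 0).Opens) (_ : V ≤ U) (hxV : x ∈ V) (_ : IsAffineOpen V) (s : SF 𝔛 hX.1 M V),
      germ (𝔛.Osh hX.1) x M hxV s = y := by
  obtain ⟨W, hW, s, rfl⟩ := TopCat.Presheaf.exists_germ_eq (F := (pre (𝔛.Osh hX.1) M).presheaf) (x := x) y
  obtain ⟨V, hV, hxV, hle⟩ := exists_affine_nhd (W := W ⊓ U) ⟨hW, hx⟩
  exact ⟨V, hle.trans inf_le_right, hxV, hV, rsF M (hle.trans inf_le_left) s, germ_rsF hX x _ hxV _⟩

variable {U : (𝔛.X 0).Opens} (hU : IsAffineOpen U) (hx : x ∈ U) {r : ℕ} (t : Fin r → O 𝔛 hX.1 U)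
  (ht : Ideal.span (Set.range t) = J 𝔛 hX.1 U)

theorem exists_kPow_of_germ {M : FSch.ModF 𝔛 hX.1} (j : ℕ) {V : (𝔛.X 0).Opens} (e : V ≤ U) (hxV : x ∈ V)
    (s : SF 𝔛 hX.1 M V) (h : ∀ i : Fin r, i.1 < j → ∃ k : ℕ, tg hX x hx t i ^ k • germ (𝔛.Osh hX.1) x M hxV s = 0) :
    ∃ (W : (𝔛.X 0).Opens) (e' : W ≤ V) (_ : IsAffineOpen W) (_ : x ∈ W) (a : ℕ),
      KPow hX t (e'.trans e) j a (rsF M e' s) := by
  induction j with
  | zero =>
    obtain ⟨W, hW, hxW, hle⟩ := exists_affine_nhd hxV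
    exact ⟨W, hle, hW, hxW, 0, kPow_zero hX 0 _⟩
  | succ j ih =>
    obtain ⟨W, e', hW, hxW, a, ha⟩ := ih fun i hi => h i (Nat.lt_succ_of_lt hi)
    by_cases hj : j < r
    · obtain ⟨k, hk⟩ := h ⟨j, hj⟩ (Nat.lt_succ_self j)
      rw [← germ_rsF hX x e' hxW s, ← germ_smul_res hX x hx t (e'.trans e) hxW] at hk
      obtain ⟨W₁, hxW₁, i₁, i₂, heq⟩ := TopCat.Presheaf.germ_eq (pre (𝔛.Osh hX.1) M).presheaf x hxW hxW _ 0
        (hk.trans (map_zero _).symm)
      obtain ⟨W₂, hW₂, hxW₂, hle⟩ := exists_affine_nhd hxW₁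
      refine ⟨W₂, (hle.trans i₁.le).trans e', hW₂, hxW₂, max a k, KPow.succ hX ?_ hj ?_⟩
      · have := ((ha.res hX (hle.trans i₁.le)).mono hX (le_max_left a k))
        rwa [rsF_rsF] at this
      · refine mono_pow hX _ (le_max_right a k) ?_
        have h1 : rsF M i₁.le (resO 𝔛 hX.1 (e'.trans e) (t ⟨j, hj⟩) ^ k • rsF M e' s) = 0 :=
          heq.trans (map_zero _)
        have h2 := congrArg (rsF M hle) h1
        rw [rsF_rsF, rsF_smul hX, map_pow, resO_resO, rsF_rsF] at h2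
        exact h2.trans (Groth.L17.FSheaf.res_zero _ _)
    · exact ⟨W, e', hW, hxW, a, fun i hi => ha i (by have := i.2; omega)⟩

include hU ht in
theorem kills_of_tors {M : FSch.ModF 𝔛 hX.1} (hM : _root_.FTors.IsTorsF 𝔛 hX.1 M)
    (y : (stMod (𝔛.Osh hX.1) x).obj M) (i : Fin r) : ∃ k : ℕ, tg hX x hx t i ^ k • y = 0 := by
  obtain ⟨V, e, hxV, hV, s, rfl⟩ := exists_germ hX x y hx
  obtain ⟨a, ha⟩ := exists_kPow hX hU hV e ht (hM V s)
  exact ⟨a, by rw [← germ_smul_res hX x hx t e hxV, ha i i.2]; exact map_zero _⟩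

/-- The complex of stalks. -/
abbrev stCx (K : CochainComplex (FSch.ModF 𝔛 hX.1) ℤ) : CochainComplex (ModuleCat.{u} (Ox (𝔛.Osh hX.1) x)) ℤ :=
  ((stMod (𝔛.Osh hX.1) x).mapHomologicalComplex (ComplexShape.up ℤ)).obj K

variable [HasDerivedCategory.{u} (ModuleCat.{u} (Ox (𝔛.Osh hX.1) x))]
  [HasCoproducts.{u} (DerivedCategory (ModuleCat.{u} (Ox (𝔛.Osh hX.1) x)))]

include hU ht in
/-- Complexes of injective modules with acyclic torsion part vanish against the Koszul objects at every point. -/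
theorem van_stCx_of_gamma (I : CochainComplex (FSch.ModF 𝔛 hX.1) ℤ) (hinj : ∀ n, Injective (I.X n))
    (hI : IsZero ((QQ _).obj (stCx hX x ((gCx hX).obj I)))) (m : ℤ) :
    Van (genD _ m) (List.ofFn (tg hX x hx t)) ((QQ _).obj (stCx hX x I)) := by
  haveI := preservesFiniteLimits_stMod (𝔛.Osh hX.1) x
  refine van_of_div (tg hX x hx t) (stCx hX x I) (fun n j hj y hy => ?_)
    (((stMod (𝔛.Osh hX.1) x).mapHomologicalComplex (ComplexShape.up ℤ)).map ((gι hX).app I)) (fun n => ?_) (fun n y => ?_) hI m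
  · obtain ⟨V, e, hxV, -, s, rfl⟩ := exists_germ hX x y hx
    obtain ⟨W, e', hW, hxW, a, ha⟩ := exists_kPow_of_germ hX x hx t j e hxV s hy
    haveI := hinj n
    obtain ⟨p, z, hz, hzeq⟩ := divide hX (M := I.X n) hW hj ha 1
    refine ⟨germ (𝔛.Osh hX.1) x (I.X n) hxW z, fun i hi => ⟨a, ?_⟩, p, ?_⟩
    · rw [← germ_smul_res hX x hx t (e'.trans e) hxW, hz i hi]
      exact map_zero _
    · have h1 := congrArg (germ (𝔛.Osh hX.1) x (I.X n) hxW) hzeq
      rw [germ_smul_res hX x hx t (e'.trans e) hxW, germ_smul_res hX x hx t (e'.trans e) hxW, germ_rsF hX x e' hxW,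
        Nat.add_comm, pow_add, pow_one, mul_smul] at h1
      rw [smul_sub, sub_eq_zero]
      exact h1.symm
  · exact (ModuleCat.mono_iff_injective _).1 (inferInstanceAs (Mono ((stMod (𝔛.Osh hX.1) x).map (γ (I.X n)))))
  · constructor
    · rintro ⟨w, rfl⟩ i -
      obtain ⟨k, hk⟩ := kills_of_tors hX x hU hx t ht (isTorsF_Γt (I.X n)) w i
      exact ⟨k, (map_smul _ _ _).symm.trans ((congrArg _ hk).trans (map_zero _))⟩
    · intro hy
      obtain ⟨V, e, hxV, -, s, rfl⟩ := exists_germ hX x y hx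
      obtain ⟨W, e', hW, hxW, a, ha⟩ := exists_kPow_of_germ hX x hx t r e hxV s hy
      obtain ⟨w, hw⟩ := exists_Γt (tors_of_kPow hX hU hW (e'.trans e) ht ha)
      refine ⟨germ (𝔛.Osh hX.1) x (Γt (I.X n)) hxW w, ?_⟩
      refine (stAb_germ (𝔛.Osh hX.1) x (γ (I.X n)) hxW w).trans ?_
      refine (congrArg (germ (𝔛.Osh hX.1) x (I.X n) hxW) hw).trans ?_
      exact germ_rsF hX x e' hxW s

include hU hx ht in
/-- A torsion complex vanishing against the Koszul objects is acyclic at the point. -/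
theorem isZero_stCx_of_van (K : CochainComplex (FSch.ModF 𝔛 hX.1) ℤ) (htor : ∀ n, _root_.FTors.IsTorsF 𝔛 hX.1 (K.X n))
    (hv : ∀ m, Van (genD _ m) (List.ofFn (tg hX x hx t)) ((QQ _).obj (stCx hX x K))) :
    IsZero ((QQ _).obj (stCx hX x K)) :=
  isZero_of_torsion _ (fun a ha n y => by
    obtain ⟨i, rfl⟩ := List.mem_ofFn.1 ha
    exact kills_of_tors hX x hU hx t ht (htor n) y i) hv

omit [HasCoproducts.{u} (DerivedCategory (ModuleCat.{u} (Ox (𝔛.Osh hX.1) x)))] in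
theorem isZero_stMod_homology (K : CochainComplex (FSch.ModF 𝔛 hX.1) ℤ) (h : IsZero ((QQ _).obj (stCx hX x K)))
    (n : ℤ) : IsZero ((stMod (𝔛.Osh hX.1) x).obj (K.homology n)) := by
  haveI := preservesFiniteLimits_stMod (𝔛.Osh hX.1) x
  haveI := preservesFiniteColimits_stMod (𝔛.Osh hX.1) x
  exact (((DerivedCategory.homologyFunctor _ n).map_isZero h).of_iso
    ((DerivedCategory.homologyFunctorFactors _ n).app _).symm).of_iso ((K.sc n).mapHomologyIso _).symm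

omit [HasCoproducts.{u} (DerivedCategory (ModuleCat.{u} (Ox (𝔛.Osh hX.1) x)))] in
theorem isZero_of_stalks {M : FSch.ModF 𝔛 hX.1} (h : ∀ y : 𝔛.X 0, IsZero ((stMod (𝔛.Osh hX.1) y).obj M)) : IsZero M := by
  refine isZero_of_sections fun V s => ?_
  refine TopCat.Presheaf.section_ext ((SheafOfModules.toSheaf (ModSite.ringSh (𝔛.Osh hX.1))).obj M) V s 0 fun y hy => ?_
  exact @Subsingleton.elim _ (ModuleCat.subsingleton_of_isZero (h y)) _ _

end Groth.L17.Tilde
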