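import Groth.Agent.L17.IndRpush.Tilde.Gamma
import Groth.Agent.L17.IndRpush.Tilde.Abstract
import Groth.Agent.L17.IndRpush.QctBrown

/-!
# The derived torsion functor followed by the derived direct image has a right adjoint
-/

set_option autoImplicit false
set_option linter.style.haveILetI false
set_option linter.unusedSectionVars false
set_option backward.defeqAttrib.useBackward true
set_option backward.isDefEq.respectTransparency false
set_option backward.isDefEq.respectTransparency.types false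

universe u

open CategoryTheory CategoryTheory.Limits CategoryTheory.Pretriangulated AlgebraicGeometry TopologicalSpace Opposite DerivedCategory

attribute [local instance] HasDerivedCategory.standard

noncomputable section

namespace Groth.L17.Tilde

open Groth.L17.FSheaf Groth.L09.IndCoh Groth.L28.QCT Groth.L04.FTorsD Groth.L04.FTorsD.Coreflect

/-- shortcut instance -/
local instance (priority := 10000) abModF' (𝔛 : FSch.Sys.{u}) (h : 𝔛.IsFormal) : Abelian (FSch.ModF 𝔛 h) :=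
  inferInstance

variable {𝔛 : FSch.Sys.{u}} (hX : 𝔛.IsLocNoethFormal)

/-- The small derived category at a point. -/
@[instance_reducible]
def hdc (y : 𝔛.X 0) : HasDerivedCategory.{u} (ModuleCat.{u} (Ox (𝔛.Osh hX.1) y)) :=
  Groth.L10.DerivedModGen.smallDerived _

theorem hasCoproducts_pt (y : 𝔛.X 0) :
    letI := hdc hX y; HasCoproducts.{u} (DerivedCategory (ModuleCat.{u} (Ox (𝔛.Osh hX.1) y))) :=
  letI := hdc hX y
  fun _ => Groth.L10.DerivedProd.hasCoproductsOfShape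

theorem isDTorsF_coproduct {ι : Type u} (K : ι → DerivedCategory (FSch.ModF 𝔛 hX.1))
    (h : ∀ i, _root_.FTors.IsDTorsF 𝔛 hX.1 (K i)) [HasCoproduct K] : _root_.FTors.IsDTorsF 𝔛 hX.1 (∐ K) := fun n => by
  haveI : IsGrothendieckAbelian.{u} (FSch.ModF 𝔛 hX.1) := Groth.L10.shMod_isGrothendieckAbelian _
  obtain ⟨hl⟩ := IndRpush.ColimDer.isColimit_H_cofan K _ (coproductIsCoproduct K) n
  exact isTorsF_colim hX hl fun i => h i.as n

variable [_root_.FTors.HasRgammaT 𝔛 hX.1]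

/-- Vanishing against all local Koszul objects. -/
def VanAll (E : DerivedCategory (FSch.ModF 𝔛 hX.1)) : Prop :=
  ∀ (y : 𝔛.X 0) (U : (𝔛.X 0).Opens), IsAffineOpen U → ∀ (hy : y ∈ U) (r : ℕ) (t : Fin r → O 𝔛 hX.1 U),
    Ideal.span (Set.range t) = J 𝔛 hX.1 U →
      letI := hdc hX y
      haveI := hasCoproducts_pt hX y
      VanAt hX y hy t E

theorem vanAll_of_isZero (E : DerivedCategory (FSch.ModF 𝔛 hX.1))
    (h : IsZero ((_root_.FTors.RgammaT 𝔛 hX.1).obj E)) : VanAll hX E := fun y U hU hy r t ht =>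
  letI := hdc hX y
  haveI := hasCoproducts_pt hX y
  vanAt_of_isZero hX y hU hy t ht h

theorem vanAll_second (T : Triangle (DerivedCategory (FSch.ModF 𝔛 hX.1))) (hT : T ∈ distTriang _)
    (h₁ : VanAll hX T.obj₁) (h₃ : VanAll hX T.obj₃) : VanAll hX T.obj₂ := fun y U hU hy r t ht m =>
  letI := hdc hX y
  haveI := hasCoproducts_pt hX y
  van_second _ _ _ ((stD hX y).map_distinguished T hT) (h₁ y U hU hy r t ht m) (h₃ y U hU hy r t ht m)

theorem isZero_of_vanAll (E : DerivedCategory (FSch.ModF 𝔛 hX.1)) (hE : _root_.FTors.IsDTorsF 𝔛 hX.1 E)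
    (h : VanAll hX E) : IsZero E := by
  have hH : ∀ n, IsZero ((DerivedCategory.homologyFunctor (FSch.ModF 𝔛 hX.1) n).obj E) := fun n =>
    isZero_of_stalks hX fun y => by
      obtain ⟨U, hU, hy, -⟩ := exists_affine_nhd (𝔛 := 𝔛) (W := ⊤) (Opens.mem_top y)
      obtain ⟨r, t, ht⟩ := exists_gens hX hU
      letI := hdc hX y
      haveI := hasCoproducts_pt hX y
      exact isZero_stalk_of_vanAt hX y hU hy t ht hE (h y U hU hy r t ht) n
  let K := Q.objPreimage E
  haveI : QuasiIso (0 : K ⟶ K) := ⟨fun n => by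
    have hK : K.ExactAt n := (HomologicalComplex.exactAt_iff_isZero_homology _ _).2
      (((hH n).of_iso ((homologyFunctor _ n).mapIso (Q.objObjPreimageIso E))).of_iso
        ((homologyFunctorFactors _ n).app K).symm)
    exact (quasiIsoAt_iff_exactAt' _ _ hK).2 hK⟩
  haveI : IsIso (Q.map (0 : K ⟶ K)) := inferInstance
  refine IsZero.of_iso ?_ (Q.objObjPreimageIso E).symm
  rw [IsZero.iff_id_eq_zero, ← IsIso.hom_inv_id (Q.map (0 : K ⟶ K))]
  exact Eq.trans (congrArg (· ≫ inv (Q.map (0 : K ⟶ K))) (Functor.map_zero _ _ _)) zero_comp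

theorem vanAll_sigma {ι : Type u} [HasColimitsOfShape (Discrete ι) (DerivedCategory (FSch.ModF 𝔛 hX.1))]
    (X Y : ι → DerivedCategory (FSch.ModF 𝔛 hX.1)) (f : ∀ i, X i ⟶ Y i)
    (h : ∀ i, ∀ C (g : Y i ⟶ C) (d : C ⟶ (X i)⟦(1 : ℤ)⟧), Triangle.mk (f i) g d ∈ distTriang _ → VanAll hX C)
    (C : DerivedCategory (FSch.ModF 𝔛 hX.1)) (g : (∐ Y) ⟶ C) (d : C ⟶ (∐ X)⟦(1 : ℤ)⟧)
    (hd : Triangle.mk (Limits.Sigma.map f) g d ∈ distTriang _) : VanAll hX C := fun y U hU hy r t ht m => by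
  letI := hdc hX y
  haveI := hasCoproducts_pt hX y
  let S := stD hX y
  haveI := preservesColimit_stD hX y X
  haveI := preservesColimit_stD hX y Y
  have hc : CohDer.IsCompactObject (genD (Ox (𝔛.Osh hX.1) y) m) := Groth.L10.DerivedModGen.compact ⟨m⟩
  refine van_of_bij (genD _ m) _ (S.map_distinguished _ hd) ?_
  refine bij_of_iso (genD _ m) (asIso (sigmaComparison S X)) (asIso (sigmaComparison S Y)) ?_
    (bij_sigma (genD _ m) hc (fun i => S.map (f i)) fun i => ?_)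
  · refine Sigma.hom_ext _ _ fun i => ?_
    change _ = Sigma.ι (fun i => S.obj (X i)) i ≫ sigmaComparison S X ≫ S.map (Limits.Sigma.map f)
    simp only [asIso_hom, Sigma.ι_map_assoc, ι_comp_sigmaComparison_assoc, ι_comp_sigmaComparison, ← Functor.map_comp,
      Sigma.ι_map]
  · obtain ⟨C', g', d', h'⟩ := distinguished_cocone_triangle (f i)
    exact bij_of_van_obj₃ _ _ (S.map_distinguished _ h') (h i C' g' d' h' y U hU hy r t ht m)

theorem preservesCoproducts_RgammaT {ι : Type u} (K : ι → DerivedCategory (FSch.ModF 𝔛 hX.1)) :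
    PreservesColimit (Discrete.functor K) (_root_.FTors.RgammaT 𝔛 hX.1) := by
  haveI : IsGrothendieckAbelian.{u} (FSch.ModF 𝔛 hX.1) := Groth.L10.shMod_isGrothendieckAbelian _
  haveI : HasColimitsOfShape (Discrete ι) (DerivedCategory (FSch.ModF 𝔛 hX.1)) :=
    Groth.L10.DerivedProd.hasCoproductsOfShape
  letI := commShiftΓ hX
  haveI := isTriangulatedΓ hX
  exact Abstract.preservesColimit (_root_.FTors.RgammaTε 𝔛 hX.1) (isDTorsF_RgammaT hX) (fun _ h => isIso_ε hX h)
    (fun E F h => bijective_ε hX h F) (vanAll_of_isZero hX) (vanAll_second hX) (isZero_of_vanAll hX)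
    (fun K hK => isDTorsF_coproduct hX K hK) (vanAll_sigma hX) K

theorem isLeftAdjoint_RgammaT : (_root_.FTors.RgammaT 𝔛 hX.1).IsLeftAdjoint := by
  haveI : IsGrothendieckAbelian.{u} (FSch.ModF 𝔛 hX.1) := Groth.L10.shMod_isGrothendieckAbelian _
  haveI := IndRpush.BrownTransfer.locallySmall (A := FSch.ModF 𝔛 hX.1)
  letI := commShiftΓ hX
  haveI := isTriangulatedΓ hX
  haveI : ∀ κ : Type u, PreservesColimitsOfShape (Discrete κ) (_root_.FTors.RgammaT 𝔛 hX.1) := fun κ =>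
    haveI : ∀ K : κ → DerivedCategory (FSch.ModF 𝔛 hX.1), PreservesColimit (Discrete.functor K)
        (_root_.FTors.RgammaT 𝔛 hX.1) := preservesCoproducts_RgammaT hX
    preservesColimitsOfShape_of_discrete _
  exact IndRpush.BrownTransfer.isLeftAdjoint _

variable {𝔜 : FSch.Sys.{u}} (hY : 𝔜.IsFormal) (f : 𝔛 ⟶ 𝔜) [CompactSpace (𝔛.X 0)] [CompactSpace (𝔜.X 0)]
  [SiteCmp.HasRpushD (FSch.homMor f hX.1 hY)]
  [(_root_.FTors.IsQCT 𝔛 hX.1).ContainsZero] [(_root_.FTors.IsQCT 𝔛 hX.1).IsClosedUnderKernels]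
  [(_root_.FTors.IsQCT 𝔛 hX.1).IsClosedUnderCokernels] [(_root_.FTors.IsQCT 𝔛 hX.1).IsClosedUnderFiniteProducts]
  [PreservesFiniteLimits (_root_.FTors.IsQCT 𝔛 hX.1).ι] [PreservesFiniteColimits (_root_.FTors.IsQCT 𝔛 hX.1).ι]

theorem isLeftAdjoint_tilde
    (hj : (_root_.FTors.IsQCT 𝔛 hX.1).ι.mapDerivedCategory.Full ∧ (_root_.FTors.IsQCT 𝔛 hX.1).ι.mapDerivedCategory.Faithful ∧
      ∀ G : DerivedCategory (FSch.ModF 𝔛 hX.1),
        (_root_.FTors.IsQCT 𝔛 hX.1).ι.mapDerivedCategory.essImage G ↔ _root_.FTors.IsDQCT 𝔛 hX.1 G) :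
    (ObjectProperty.ι (_root_.FTors.IsDQCTilde 𝔛 hX.1) ⋙ _root_.FTors.RgammaT 𝔛 hX.1 ⋙
      SiteCmp.RpushD (FSch.homMor f hX.1 hY)).IsLeftAdjoint := by
  haveI := isLeftAdjoint_RgammaT hX
  haveI : (_root_.FTors.IsDQCT 𝔛 hX.1).IsClosedUnderIsomorphisms := ⟨fun {E F} e h =>
    (hj.2.2 F).1 ((_root_.FTors.IsQCT 𝔛 hX.1).ι.mapDerivedCategory.essImage.prop_of_iso e ((hj.2.2 E).2 h))⟩
  exact Abstract.isLeftAdjoint_comp (_root_.FTors.RgammaTε 𝔛 hX.1) (isDTorsF_RgammaT hX) (fun _ h => isIso_ε hX h)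
    (fun E F h => bijective_ε hX h F) (Adjunction.ofIsLeftAdjoint _) (fun _ h n => (h n).1) _
    (IndRpush.QctBrown.isLeftAdjoint_ι_RpushD hX hY f hj)

end Groth.L17.Tilde
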